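import Groth.Agent.AutDescLib.Locus
import Groth.Agent.SteinConn.TrivialH0
import Groth.Agent.RatDense.Basic
import Groth.Agent.S3844

/-!
# Families lifting along a birational morphism are unique
-/

set_option autoImplicit false
set_option backward.isDefEq.respectTransparency false
set_option linter.style.haveILetI false
set_option linter.unusedSectionVars false

universe u

open CategoryTheory CategoryTheory.Limits MonoidalCategory CartesianMonoidalCategory MonObj AlgebraicGeometry

noncomputable section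

namespace Groth.Agent.AutDescLib

/-- A proper birational morphism onto a normal scheme has trivial direct image of functions. -/
theorem isIso_app_of_birational {X Y : Scheme.{u}} [IsIntegral X] [IsIntegral Y] (hY : Pi1.IsNormalScheme Y)
    (f : X ⟶ Y) [IsProper f] (U : Y.Opens) (hU : (U : Set ↥Y).Nonempty) (hf : IsIso (f ∣_ U)) (V : Y.Opens) :
    IsIso (f.app V) := by
  have hηU : genericPoint Y ∈ U :=
    (genericPoint_spec Y).mem_open_set_iff U.2 |>.2 (by simpa using hU)
  have hXU : genericPoint X ∈ f ⁻¹ᵁ U := by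
    haveI := hf
    obtain ⟨x, hx⟩ := (f ∣_ U).surjective ⟨genericPoint Y, hηU⟩
    exact (genericPoint_spec X).mem_open_set_iff (f ⁻¹ᵁ U).2 |>.2 (by simpa using ⟨x.1, x.2⟩)
  have hgenη : f (genericPoint X) = genericPoint Y := by
    haveI := hf
    obtain ⟨x, hx⟩ := (f ∣_ U).surjective ⟨genericPoint Y, hηU⟩
    have hx' : f x.1 = genericPoint Y := by
      have h1 := congrArg U.ι hx
      rwa [← Scheme.Hom.comp_apply, morphismRestrict_ι] at h1
    have h2 : f (genericPoint X) ⤳ genericPoint Y :=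
      hx' ▸ ((genericPoint_spec X).specializes (Set.mem_univ x.1)).map f.continuous
    exact h2.antisymm ((genericPoint_spec Y).specializes (Set.mem_univ _)) |>.eq
  refine SteinConn.isIso_app_of_trivial_generic f hY (fun Z hZ x hx => ?_) ?_ V
  · have hZu : Z = Set.univ :=
      Set.eq_univ_of_univ_subset (hZ.2 (IrreducibleSpace.isIrreducible_univ _) (Set.subset_univ Z))
    subst hZu
    rw [hx.eq (genericPoint_spec X), hgenη]
  · let q := Y.fromSpecResidueField (genericPoint Y)
    let l : Spec (Y.residueField (genericPoint Y)) ⟶ (U : Scheme.{u}) := IsOpenImmersion.lift U.ι q (by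
      rintro _ ⟨a, rfl⟩
      rw [Scheme.fromSpecResidueField_apply, Scheme.Opens.range_ι]
      exact hηU)
    have hl : l ≫ U.ι = q := IsOpenImmersion.lift_fac _ _ _
    have sq : IsPullback (f.fiberι (genericPoint Y)) (f.fiberToSpecResidueField (genericPoint Y)) f (l ≫ U.ι) := by
      rw [hl]; exact IsPullback.of_hasPullback f q
    let t : f.fiber (genericPoint Y) ⟶ (f ⁻¹ᵁ U : Scheme.{u}) :=
      (isPullback_morphismRestrict f U).flip.lift (f.fiberι (genericPoint Y))
        (f.fiberToSpecResidueField (genericPoint Y) ≫ l) (by rw [Category.assoc]; exact sq.w)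
    have sq2 : IsPullback t (f.fiberToSpecResidueField (genericPoint Y)) (f ∣_ U) l :=
      IsPullback.of_right (h₁₂ := (f ⁻¹ᵁ U).ι) (v₁₃ := f) (h₂₂ := U.ι)
        (by rw [IsPullback.lift_fst]; exact sq) (IsPullback.lift_snd _ _ _ _) (isPullback_morphismRestrict f U).flip
    haveI := hf
    haveI : IsIso (f.fiberToSpecResidueField (genericPoint Y)) := sq2.isIso_snd_of_isIso
    exact (ConcreteCategory.isIso_iff_bijective _).1 inferInstance

variable {k : Type u} [Field k] {X Y : Over (Spec (CommRingCat.of k))} [IsIntegral X.left] [IsIntegral Y.left]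
  [IsProper X.hom] (f : X ⟶ Y)

/-- Lifts of a family along a birational morphism are unique. -/
theorem fam_ext (U : Y.left.Opens) (hU : (U : Set ↥Y.left).Nonempty) (hf : IsIso (f.left ∣_ U))
    {T : Over (Spec (CommRingCat.of k))} (φ₁ φ₂ : X ⊗ T ⟶ X) (h₁ : AutSch.IsAutFamily φ₁)
    (h : φ₁ ≫ f = φ₂ ≫ f) : φ₁ = φ₂ := by
  haveI : IsIso (AutSch.endOf φ₁) := h₁
  suffices fst X T = inv (AutSch.endOf φ₁) ≫ φ₂ by
    rw [IsIso.eq_inv_comp, AutSch.endOf_fst] at this
    exact this
  let φ := inv (AutSch.endOf φ₁) ≫ φ₂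
  have hφ : φ ≫ f = fst X T ≫ f := by
    show (inv (AutSch.endOf φ₁) ≫ φ₂) ≫ f = _
    rw [Category.assoc, ← h, IsIso.inv_comp_eq, AutSch.endOf_fst_assoc]
  haveI : IsLocallyNoetherian X.left := LocallyOfFiniteType.isLocallyNoetherian X.hom
  haveI : Flat (fst X T).left := by
    haveI : Flat T.hom := inferInstance
    show Flat (pullback.fst X.hom T.hom)
    exact MorphismProperty.pullback_fst _ _ ‹Flat T.hom›
  have hne : (f.left ⁻¹ᵁ U : Set X.left).Nonempty := by
    haveI := hf
    obtain ⟨y, hy⟩ := hU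
    obtain ⟨x, -⟩ := (f.left ∣_ U).surjective ⟨y, hy⟩
    exact ⟨x.1, x.2⟩
  have hd := Groth.Agent.S3844.result (fst X T).left (f.left ⁻¹ᵁ U)
    (RatDense.of_dense ((f.left ⁻¹ᵁ U).2.dense hne))
  let O := (fst X T).left ⁻¹ᵁ (f.left ⁻¹ᵁ U)
  have hkey : ∀ ψ : X ⊗ T ⟶ X, ψ ≫ f = fst X T ≫ f → ∀ p : ↥(O : Scheme.{u}), ψ.left (O.ι p) ∈ f.left ⁻¹ᵁ U := by
    intro ψ hψ p
    show f.left (ψ.left (O.ι p)) ∈ U
    rw [← Scheme.Hom.comp_apply ψ.left f.left, ← Over.comp_left, hψ, Over.comp_left, Scheme.Hom.comp_apply]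
    exact p.2
  refine Over.OverMorphism.ext (RatDense.eq_of_isSchematicallyDense X.hom hd _ _
    ((Over.w (fst X T)).trans (Over.w φ).symm) ?_)
  have hm : ∀ ψ : X ⊗ T ⟶ X, ∀ hψ : ψ ≫ f = fst X T ≫ f,
      IsOpenImmersion.lift (f.left ⁻¹ᵁ U).ι (O.ι ≫ ψ.left) (by
          rintro _ ⟨p, rfl⟩
          rw [Scheme.Opens.range_ι]
          exact hkey ψ hψ p) ≫ (f.left ∣_ U) ≫ U.ι = O.ι ≫ (fst X T ≫ f).left := fun ψ hψ => by
    rw [morphismRestrict_ι, IsOpenImmersion.lift_fac_assoc, ← hψ, Over.comp_left, Category.assoc]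
  have h3 := (hm (fst X T) rfl).trans (hm φ hφ).symm
  haveI := hf
  rw [← Category.assoc, ← Category.assoc, cancel_mono, cancel_mono] at h3
  have h4 := congrArg (· ≫ (f.left ⁻¹ᵁ U).ι) h3
  simpa only [IsOpenImmersion.lift_fac] using h4

end Groth.Agent.AutDescLib
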