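import Groth.Prelude.Def_AutSch
import Groth.Agent.MonoFibre.Blanchard
import Groth.Agent.MonoFibre.MaxClosed

/-!
# The closed locus of automorphisms descending along a contraction
-/

set_option autoImplicit false
set_option backward.isDefEq.respectTransparency false
set_option linter.style.haveILetI false
set_option linter.unusedSectionVars false

universe u

open CategoryTheory CategoryTheory.Limits MonoidalCategory CartesianMonoidalCategory MonObj AlgebraicGeometry

noncomputable section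

namespace Groth.Agent.AutDescLib

variable {k : Type u} [Field k]

section fam

variable {G X : Over (Spec (CommRingCat.of k))} [GrpObj G] (a : AlgGrp.Action G X)

theorem famOf_apply {T W : Over (Spec (CommRingCat.of k))} (g : T ⟶ G) (x : W ⟶ X) (t : W ⟶ T) :
    lift x t ≫ AutSch.famOf a g = lift (t ≫ g) x ≫ a.act := by
  rw [AutSch.famOf, comp_lift_assoc, lift_snd_assoc, lift_fst]

theorem act_mul {W : Over (Spec (CommRingCat.of k))} (g g' : W ⟶ G) (x : W ⟶ X) :
    lift (g * g') x ≫ a.act = lift g (lift g' x ≫ a.act) ≫ a.act := by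
  have h := congrArg (lift (lift g g') x ≫ ·) a.mul_act
  simpa [Hom.mul_def] using h

theorem act_one {W : Over (Spec (CommRingCat.of k))} (x : W ⟶ X) : lift (1 : W ⟶ G) x ≫ a.act = x := by
  have h := congrArg (lift (toUnit W) x ≫ ·) a.one_act
  simpa [Hom.one_def] using h

theorem endOf_comp {T : Over (Spec (CommRingCat.of k))} (g g' : T ⟶ G) :
    AutSch.endOf (AutSch.famOf a g) ≫ AutSch.endOf (AutSch.famOf a g') = AutSch.endOf (AutSch.famOf a (g' * g)) := by
  apply CartesianMonoidalCategory.hom_ext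
  · rw [Category.assoc, AutSch.endOf_fst, AutSch.endOf_fst, AutSch.endOf, famOf_apply]
    conv_lhs => rw [show AutSch.famOf a g = lift (snd X T ≫ g) (fst X T) ≫ a.act from rfl]
    rw [← act_mul, ← MonObj.comp_mul]
    rfl
  · simp

theorem endOf_one (T : Over (Spec (CommRingCat.of k))) :
    AutSch.endOf (AutSch.famOf a (1 : T ⟶ G)) = 𝟙 (X ⊗ T) := by
  apply CartesianMonoidalCategory.hom_ext
  · rw [AutSch.endOf_fst, Category.id_comp, AutSch.famOf, MonObj.comp_one, act_one]
  · simp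

theorem isAutFamily_famOf {T : Over (Spec (CommRingCat.of k))} (g : T ⟶ G) :
    AutSch.IsAutFamily (AutSch.famOf a g) :=
  ⟨AutSch.endOf (AutSch.famOf a g⁻¹), by rw [endOf_comp, inv_mul_cancel, endOf_one],
    by rw [endOf_comp, mul_inv_cancel, endOf_one]⟩

end fam

section descent

variable {X Y : Over (Spec (CommRingCat.of k))} (f : X ⟶ Y) [IsProper f.left]
  (hf : ∀ U : Y.left.Opens, IsIso (f.left.app U))

include hf in
/-- Families descend when they respect the pairs identified by the contraction. -/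
theorem exists_desc {Z T : Over (Spec (CommRingCat.of k))} (m : T ⊗ X ⟶ Z)
    (hc : ∀ (W : Over (Spec (CommRingCat.of k))) (t : W ⟶ T) (x₁ x₂ : W ⟶ X),
      x₁ ≫ f = x₂ ≫ f → lift t x₁ ≫ m = lift t x₂ ≫ m) :
    ∃ b : T ⊗ Y ⟶ Z, (T ◁ f) ≫ b = m := by
  obtain ⟨b₀, hb₀⟩ := MonoFibre.Contraction.exists_desc_of_const
    (MonoFibre.Contraction.isContr_whiskerLeft f hf T) m.left (fun p q hpq => by
      obtain ⟨z, hz₁, hz₂⟩ := Scheme.Pullback.exists_preimage_pullback (f := (T ◁ f).left) (g := (T ◁ f).left) p q hpq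
      let W : Over (Spec (CommRingCat.of k)) := Over.mk (pullback.fst (T ◁ f).left (T ◁ f).left ≫ (T ⊗ X).hom)
      let u : W ⟶ T ⊗ X := Over.homMk (pullback.fst _ _) rfl
      let v : W ⟶ T ⊗ X := Over.homMk (pullback.snd _ _) (by
        show pullback.snd (T ◁ f).left (T ◁ f).left ≫ (T ⊗ X).hom = pullback.fst (T ◁ f).left (T ◁ f).left ≫ (T ⊗ X).hom
        rw [← Over.w (T ◁ f), ← Category.assoc, ← Category.assoc, pullback.condition])
      have huv : u ≫ (T ◁ f) = v ≫ (T ◁ f) := Over.OverMorphism.ext pullback.condition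
      have hg : u ≫ fst T X = v ≫ fst T X := by simpa using congrArg (· ≫ fst T Y) huv
      have hx : (u ≫ snd T X) ≫ f = (v ≫ snd T X) ≫ f := by simpa using congrArg (· ≫ snd T Y) huv
      have hu : u = lift (u ≫ fst T X) (u ≫ snd T X) := by ext1 <;> simp
      have hv : v = lift (u ≫ fst T X) (v ≫ snd T X) := by ext1 <;> simp [hg]
      have key := hc W (u ≫ fst T X) (u ≫ snd T X) (v ≫ snd T X) hx
      rw [← hu, ← hv] at key
      have hp : u.left z = p := hz₁
      have hq : v.left z = q := hz₂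
      rw [← hp, ← hq, ← Scheme.Hom.comp_apply, ← Scheme.Hom.comp_apply, ← Over.comp_left, ← Over.comp_left, key])
  refine ⟨Over.homMk b₀ ?_, Over.OverMorphism.ext hb₀⟩
  refine MonoFibre.Contraction.hom_ext (MonoFibre.Contraction.isContr_whiskerLeft f hf T) _ _ ?_
  rw [← Category.assoc, hb₀, Over.w, Over.w]

include hf in
theorem epi_whiskerRight {T Z : Over (Spec (CommRingCat.of k))} {b b' : Y ⊗ T ⟶ Z}
    (h : (f ▷ T) ≫ b = (f ▷ T) ≫ b') : b = b' := by
  have h1 : (T ◁ f) ≫ lift (snd T Y) (fst T Y) ≫ b = (T ◁ f) ≫ lift (snd T Y) (fst T Y) ≫ b' := by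
    have e : (T ◁ f) ≫ lift (snd T Y) (fst T Y) = lift (snd T X) (fst T X) ≫ (f ▷ T) := by
      apply CartesianMonoidalCategory.hom_ext <;> simp
    rw [← Category.assoc, e, Category.assoc, h, ← Category.assoc, ← e, Category.assoc]
  have h2 := congrArg (lift (snd Y T) (fst Y T) ≫ ·) (MonoFibre.Blanchard.hom_ext_whiskerLeft f hf h1)
  simpa [comp_lift_assoc] using h2

variable {GX : Over (Spec (CommRingCat.of k))} [GrpObj GX] (aX : AlgGrp.Action GX X)

/-- The property of families: they descend to a family of automorphisms of the target. -/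
def Descends {T : Over (Spec (CommRingCat.of k))} (φ : X ⊗ T ⟶ X) : Prop :=
  ∃ ψ : Y ⊗ T ⟶ Y, AutSch.IsAutFamily ψ ∧ AutSch.endOf φ ≫ (f ▷ T) = (f ▷ T) ≫ AutSch.endOf ψ

/-- The point respects the identifications made by the contraction. -/
def Respects {T : Over (Spec (CommRingCat.of k))} (g : T ⟶ GX) : Prop :=
  ∀ (W : Over (Spec (CommRingCat.of k))) (t : W ⟶ T) (x₁ x₂ : W ⟶ X), x₁ ≫ f = x₂ ≫ f →
    lift (t ≫ g) x₁ ≫ aX.act ≫ f = lift (t ≫ g) x₂ ≫ aX.act ≫ f

theorem respects_of_descends {T : Over (Spec (CommRingCat.of k))} (g : T ⟶ GX)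
    (h : Descends f (AutSch.famOf aX g)) : Respects f aX g := by
  obtain ⟨ψ, -, hψ⟩ := h
  intro W t x₁ x₂ hx
  have key : ∀ x : W ⟶ X, lift (t ≫ g) x ≫ aX.act ≫ f = lift (x ≫ f) t ≫ ψ := fun x => by
    have h1 := congrArg (fun e => lift x t ≫ e ≫ fst Y T) hψ
    simp only [Category.assoc, whiskerRight_fst, AutSch.endOf_fst, AutSch.endOf_fst_assoc, lift_whiskerRight_assoc] at h1
    rw [← Category.assoc, famOf_apply, Category.assoc] at h1
    exact h1
  rw [key, key, hx]

include hf in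
theorem exists_fam {T : Over (Spec (CommRingCat.of k))} (g : T ⟶ GX) (h : Respects f aX g) :
    ∃ ψ : Y ⊗ T ⟶ Y, AutSch.endOf (AutSch.famOf aX g) ≫ (f ▷ T) = (f ▷ T) ≫ AutSch.endOf ψ := by
  obtain ⟨b, hb⟩ := exists_desc f hf (lift (fst T X ≫ g) (snd T X) ≫ aX.act ≫ f) (fun W t x₁ x₂ hx => by
    have h1 := h W t x₁ x₂ hx
    rw [comp_lift_assoc, comp_lift_assoc, lift_fst_assoc, lift_fst_assoc, lift_snd, lift_snd]
    exact h1)
  refine ⟨lift (snd Y T) (fst Y T) ≫ b, ?_⟩
  apply CartesianMonoidalCategory.hom_ext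
  · have h2 := congrArg (lift (snd X T) (fst X T) ≫ ·) hb
    simp only [Category.assoc, whiskerRight_fst, AutSch.endOf_fst, AutSch.endOf_fst_assoc]
    simp only [lift_whiskerLeft_assoc, comp_lift_assoc, lift_fst_assoc, lift_snd] at h2
    rw [show AutSch.famOf aX g = lift (snd X T ≫ g) (fst X T) ≫ aX.act from rfl, Category.assoc, ← h2,
      comp_lift_assoc]
    simp
  · simp

include hf in
theorem descends_iff {T : Over (Spec (CommRingCat.of k))} (g : T ⟶ GX) :
    Descends f (AutSch.famOf aX g) ↔ Respects f aX g ∧ Respects f aX g⁻¹ := by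
  constructor
  · intro h
    refine ⟨respects_of_descends f aX g h, respects_of_descends f aX g⁻¹ ?_⟩
    obtain ⟨ψ, hψa, hψ⟩ := h
    haveI : IsIso (AutSch.endOf ψ) := hψa
    have he : AutSch.endOf (inv (AutSch.endOf ψ) ≫ fst Y T) = inv (AutSch.endOf ψ) := by
      apply CartesianMonoidalCategory.hom_ext
      · simp
      · rw [AutSch.endOf_snd, IsIso.eq_inv_comp, AutSch.endOf_snd]
    refine ⟨inv (AutSch.endOf ψ) ≫ fst Y T, by rw [AutSch.IsAutFamily, he]; infer_instance, ?_⟩
    rw [he, IsIso.eq_comp_inv, Category.assoc, ← hψ, ← Category.assoc, endOf_comp, mul_inv_cancel, endOf_one,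
      Category.id_comp]
  · rintro ⟨h, h'⟩
    obtain ⟨ψ, hψ⟩ := exists_fam f hf aX g h
    obtain ⟨ψ', hψ'⟩ := exists_fam f hf aX g⁻¹ h'
    refine ⟨ψ, ⟨AutSch.endOf ψ', epi_whiskerRight f hf ?_, epi_whiskerRight f hf ?_⟩, hψ⟩
    · rw [← Category.assoc, ← hψ, Category.assoc, ← hψ', ← Category.assoc, endOf_comp, inv_mul_cancel, endOf_one,
        Category.id_comp, Category.comp_id]
    · rw [← Category.assoc, ← hψ', Category.assoc, ← hψ, ← Category.assoc, endOf_comp, mul_inv_cancel, endOf_one,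
        Category.id_comp, Category.comp_id]

theorem isClosedImmersion_equalizer {A B : Over (Spec (CommRingCat.of k))} [IsSeparated B.hom] (u v : A ⟶ B) :
    IsClosedImmersion (equalizer.ι u v).left := by
  refine MorphismProperty.of_isPullback (P := @IsClosedImmersion)
    ((Limits.isPullback_equalizer_prod u v).map (Over.forget _)).flip ?_
  rw [← MorphismProperty.cancel_right_of_respectsIso @IsClosedImmersion _
    (Over.prodLeftIsoPullback B B).hom]
  convert! (inferInstance : IsClosedImmersion (pullback.diagonal B.hom))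
  ext <;> simp [← Over.comp_left]

include hf in
/-- Automorphisms descending along a contraction form a closed subscheme. -/
theorem exists_locus [IsSeparated Y.hom] :
    ∃ (Z : Over (Spec (CommRingCat.of k))) (incl : Z ⟶ GX), IsClosedImmersion incl.left ∧
      ∀ (T : Over (Spec (CommRingCat.of k))) (g : T ⟶ GX),
        (∃ z : T ⟶ Z, z ≫ incl = g) ↔ Descends f (AutSch.famOf aX g) := by
  let R : Over (Spec (CommRingCat.of k)) := Over.mk (pullback.fst f.left f.left ≫ X.hom)
  let p₁ : R ⟶ X := Over.homMk (pullback.fst _ _) rfl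
  let p₂ : R ⟶ X := Over.homMk (pullback.snd _ _) (by
    show pullback.snd f.left f.left ≫ X.hom = pullback.fst f.left f.left ≫ X.hom
    rw [← Over.w f, ← Category.assoc, ← Category.assoc, pullback.condition])
  have hp : p₁ ≫ f = p₂ ≫ f := Over.OverMorphism.ext pullback.condition
  let E : (R ⟶ X) → (GX ⊗ R ⟶ Y ⊗ Y) := fun p =>
    lift (lift (fst GX R) (snd GX R ≫ p) ≫ aX.act ≫ f) (lift (fst GX R)⁻¹ (snd GX R ≫ p) ≫ aX.act ≫ f)
  haveI : IsSeparated (Y ⊗ Y).hom := by
    show IsSeparated (pullback.fst Y.hom Y.hom ≫ Y.hom)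
    infer_instance
  haveI := isClosedImmersion_equalizer (E p₁) (E p₂)
  obtain ⟨Z, incl, hincl, hZ⟩ := MonoFibre.MaxClosed.exists_maxClosed (E p₁) (E p₂)
  refine ⟨Z, incl, hincl, fun T g => ?_⟩
  rw [hZ, descends_iff f hf]
  have hE : ∀ (p : R ⟶ X) {W : Over (Spec (CommRingCat.of k))} (t : W ⟶ T) (r : W ⟶ R),
      lift (t ≫ g) r ≫ E p = lift (lift (t ≫ g) (r ≫ p) ≫ aX.act ≫ f) (lift (t ≫ g⁻¹) (r ≫ p) ≫ aX.act ≫ f) := by
    intro p W t r
    simp only [E, comp_lift, comp_lift_assoc, lift_fst, lift_snd_assoc, GrpObj.comp_inv]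
  constructor
  · intro h
    have key : ∀ (W : Over (Spec (CommRingCat.of k))) (t : W ⟶ T) (x₁ x₂ : W ⟶ X), x₁ ≫ f = x₂ ≫ f →
        lift (lift (t ≫ g) x₁ ≫ aX.act ≫ f) (lift (t ≫ g⁻¹) x₁ ≫ aX.act ≫ f) =
          lift (lift (t ≫ g) x₂ ≫ aX.act ≫ f) (lift (t ≫ g⁻¹) x₂ ≫ aX.act ≫ f) := by
      intro W t x₁ x₂ hx
      let r : W ⟶ R := Over.homMk (pullback.lift x₁.left x₂.left (congrArg CommaMorphism.left hx)) (by
        show pullback.lift x₁.left x₂.left _ ≫ pullback.fst f.left f.left ≫ X.hom = W.hom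
        rw [pullback.lift_fst_assoc]
        exact Over.w x₁)
      have hr₁ : r ≫ p₁ = x₁ := Over.OverMorphism.ext (pullback.lift_fst _ _ _)
      have hr₂ : r ≫ p₂ = x₂ := Over.OverMorphism.ext (pullback.lift_snd _ _ _)
      have h1 := h W t r
      rwa [hE, hE, hr₁, hr₂] at h1
    exact ⟨fun W t x₁ x₂ hx => by simpa using congrArg (· ≫ fst Y Y) (key W t x₁ x₂ hx),
      fun W t x₁ x₂ hx => by simpa using congrArg (· ≫ snd Y Y) (key W t x₁ x₂ hx)⟩
  · rintro ⟨h, h'⟩ W t r
    have hx : (r ≫ p₁) ≫ f = (r ≫ p₂) ≫ f := by simp [hp]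
    rw [hE, hE, h W t _ _ hx, h' W t _ _ hx]

end descent

end Groth.Agent.AutDescLib
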